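import Cfsg.Agent.H35.AN.Low
import Cfsg.Agent.H89.AN.AOneTwo

/-!
# S4766, A3 (helper35)
-/

set_option autoImplicit false

namespace Cfsg.Agent.H35.AN

open Cfsg Cfsg.Agent.H691.AN

/-- **A3: low degrees** -/
theorem a3_low {n : ℕ} (hn : 20 ≤ n) {d : ℕ} (hd : d ∈ D n) :
    d = 1 ∨ d = n - 1 ∨ 2 * d = n * (n - 3) ∨ 2 * d = (n - 1) * (n - 2) ∨ 6 * d = n * (n - 1) * (n - 5) ∨
      3 * d = n * (n - 2) * (n - 4) ∨ 6 * d = (n - 1) * (n - 2) * (n - 3) ∨ (n - 1) ^ 3 < 2 * d :=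
  a3_of hn (fun hd => Cfsg.Agent.H89.AN.a2_part (by omega) hd) hd

end Cfsg.Agent.H35.AN
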