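import Cfsg.Agent.H704.DS.LBHigh
import Cfsg.Agent.H999.DS.Lev
import Cfsg.Agent.H691.AN.Defs

/-!
# The low degrees of `A_n`, `n ≥ 20` (S4766, A3; helper35)
-/

set_option autoImplicit false
set_option maxRecDepth 100000

namespace Cfsg.Agent.H35.AN

open Cfsg Cfsg.Agent.H704 Cfsg.Agent.H704.DS Cfsg.Agent.H691.AN

/-- the degrees with at most three boxes outside the first row -/
def Low (n d : ℕ) : Prop :=
  d = 1 ∨ d = n - 1 ∨ 2 * d = n * (n - 3) ∨ 2 * d = (n - 1) * (n - 2) ∨ 6 * d = n * (n - 1) * (n - 5) ∨
      3 * d = n * (n - 2) * (n - 4) ∨ 6 * d = (n - 1) * (n - 2) * (n - 3)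

theorem cancel {c a b x : ℕ} (hc : 0 < c) (h : c * a = x) (h' : x = c * b) : a = b :=
  Nat.eq_of_mul_eq_mul_left hc (h.trans h')

theorem row_low {n : ℕ} (hn : 20 ≤ n) {l : List ℕ} {d : ℕ} (hl : IsPart l n) (he : d * hookProd l = n.factorial)
    (hh : n ≤ l.headD 0 + 3) : Low n d := by
  obtain ⟨hs, hp, hsum⟩ := hl
  cases l with
  | nil => rw [List.sum_nil] at hsum; omega
  | cons a μ =>
    rw [List.headD_cons] at hh
    rw [List.sum_cons] at hsum
    obtain ⟨y, rfl⟩ : ∃ y, a = y + 3 := ⟨a - 3, by omega⟩
    have hy := Nat.factorial_pos y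
    have hps : ∀ x ∈ μ, 0 < x := fun x hx => hp x (List.mem_cons_of_mem _ hx)
    have hsp := hs.of_cons
    have hsplit := Cfsg.Agent.H999.DS.rowHook_split (a := y + 3) hsp (by
      have hb : μ.headD 0 ≤ μ.sum := by
        cases μ with
        | nil => exact le_rfl
        | cons b μ => rw [List.headD_cons, List.sum_cons]; omega
      omega)
    rw [hookProd, hsplit] at he
    clear hs hsplit
    rcases μ with _ | ⟨b, _ | ⟨c, _ | ⟨e, _ | ⟨f, t⟩⟩⟩⟩
    · -- []
      left
      have h1 : n = y + 3 := by rw [← hsum]; rfl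
      subst h1
      have h2 : d * (y + 3).factorial = (y + 3).factorial := by
        refine Eq.trans ?_ he
        simp [Cfsg.Agent.H999.DS.rowP, hookProd]
      have h3 := Nat.factorial_pos (y + 3)
      exact Nat.eq_of_mul_eq_mul_right h3 (by rw [h2, one_mul])
    · -- [b]
      simp only [List.sum_cons, List.sum_nil, add_zero] at hsum
      have hb0 : 0 < b := hps b (by simp)
      have hb3 : b ≤ 3 := by omega
      subst hsum
      interval_cases b
      · right; left
        refine cancel (c := (y + 4) * ((y + 2) * (y + 1) * y.factorial)) (by positivity) ?_ (x := (y + 3 + 1).factorial) ?_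
        · rw [← he]
          simp [Cfsg.Agent.H999.DS.rowP, hookProd, rowHook, colLen, Nat.factorial_succ]
          ring
        · simp [Nat.factorial_succ]
          ring
      · right; right; left
        refine cancel (c := (y + 4) * (y + 3) * ((y + 1) * y.factorial)) (by positivity) ?_ (x := (y + 3 + 2).factorial) ?_
        · rw [← he]
          simp [Cfsg.Agent.H999.DS.rowP, hookProd, rowHook, colLen, Nat.factorial_succ, List.range_succ]
          ring
        · rw [show y + 3 + 2 - 3 = y + 2 by omega]
          simp [Nat.factorial_succ]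
          ring
      · right; right; right; right; left
        refine cancel (c := (y + 4) * (y + 3) * (y + 2) * y.factorial) (by positivity) ?_ (x := (y + 3 + 3).factorial) ?_
        · rw [← he]
          simp [Cfsg.Agent.H999.DS.rowP, hookProd, rowHook, colLen, Nat.factorial_succ, List.range_succ]
          ring
        · rw [show y + 3 + 3 - 1 = y + 5 by omega, show y + 3 + 3 - 5 = y + 1 by omega]
          simp [Nat.factorial_succ]
          ring
    · -- [b, c]
      simp only [List.sum_cons, List.sum_nil, add_zero] at hsum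
      have hb0 : 0 < b := hps b (by simp)
      have hc0 : 0 < c := hps c (by simp)
      have hbc : c ≤ b := List.rel_of_pairwise_cons hsp (by simp)
      have hb3 : b ≤ 2 := by omega
      have hc1 : c = 1 := by omega
      subst hc1
      subst hsum
      interval_cases b
      · right; right; right; left
        refine cancel (c := (y + 5) * ((y + 2) * (y + 1) * y.factorial)) (by positivity) ?_
          (x := (y + 3 + (1 + 1)).factorial) ?_
        · rw [← he]
          simp [Cfsg.Agent.H999.DS.rowP, hookProd, rowHook, colLen, Nat.factorial_succ, List.range_succ]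
          ring
        · rw [show y + 3 + (1 + 1) - 1 = y + 4 by omega, show y + 3 + (1 + 1) - 2 = y + 3 by omega]
          simp [Nat.factorial_succ]
          ring
      · right; right; right; right; right; left
        refine cancel (c := (y + 5) * (y + 3) * ((y + 1) * y.factorial)) (by positivity) ?_
          (x := (y + 3 + (2 + 1)).factorial) ?_
        · rw [← he]
          simp [Cfsg.Agent.H999.DS.rowP, hookProd, rowHook, colLen, Nat.factorial_succ, List.range_succ]
          ring
        · rw [show y + 3 + (2 + 1) - 2 = y + 4 by omega, show y + 3 + (2 + 1) - 4 = y + 2 by omega]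
          simp [Nat.factorial_succ]
          ring
    · -- [b, c, e]
      simp only [List.sum_cons, List.sum_nil, add_zero] at hsum
      have hb0 : 0 < b := hps b (by simp)
      have hc0 : 0 < c := hps c (by simp)
      have he0 : 0 < e := hps e (by simp)
      obtain rfl : b = 1 := by omega
      obtain rfl : c = 1 := by omega
      obtain rfl : e = 1 := by omega
      subst hsum
      right; right; right; right; right; right
      refine cancel (c := (y + 6) * ((y + 2) * (y + 1) * y.factorial)) (by positivity) ?_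
          (x := (y + 3 + (1 + (1 + 1))).factorial) ?_
      · rw [← he]
        simp [Cfsg.Agent.H999.DS.rowP, hookProd, rowHook, colLen, Nat.factorial_succ, List.range_succ]
        ring
      · rw [show y + 3 + (1 + (1 + 1)) - 1 = y + 5 by omega, show y + 3 + (1 + (1 + 1)) - 2 = y + 4 by omega,
          show y + 3 + (1 + (1 + 1)) - 3 = y + 3 by omega]
        simp [Nat.factorial_succ]
        ring
    · exfalso
      simp only [List.sum_cons] at hsum
      have hb0 : 0 < b := hps b (by simp)
      have hc0 : 0 < c := hps c (by simp)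
      have he0 : 0 < e := hps e (by simp)
      have hf0 : 0 < f := hps f (by simp)
      omega

/-- the tables -/
def chk (n : ℕ) : Bool := Nat.blt ((n - 1) ^ 3) (2 * tg n 4) && Nat.blt ((n - 1) ^ 3) (tg n 8)

theorem chk_all : ((List.range 42).all fun i => chk (20 + i)) = true := by decide +kernel

theorem high {n : ℕ} (hn : 60 ≤ n) : LBs 1 4 n ((n - 1) ^ 3 + 1) := by
  refine lb_high (m := n) (by norm_num) hn le_rfl ?_
  obtain ⟨y, rfl⟩ := Nat.exists_eq_add_of_le hn
  have e1 : Rp 4 (60 + y) = (60 + y) * (59 + y) * (58 + y) * (53 + y) := by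
    simp only [Rp]
    rw [show 60 + y = (57 + y) + 1 + 1 + 1 by omega, Nat.succ_descFactorial_succ, Nat.succ_descFactorial_succ,
      Nat.succ_descFactorial_succ, Nat.descFactorial_zero, show 57 + y + 1 + 1 + 1 - 1 - 2 * 3 = 53 + y by omega]
    ring
  rw [e1, show 60 + y - 1 = 59 + y by omega, show Nat.factorial 4 = 24 from rfl, show wt 4 = 95 from rfl]
  nlinarith [sq_nonneg y]

/-- not few boxes outside the first row and column -/
theorem lb4 {n : ℕ} (hn : 20 ≤ n) {l : List ℕ} {d : ℕ} (hl : IsPart l n) (he : d * hookProd l = n.factorial)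
    (h1 : l.headD 0 + 4 ≤ n) (h2 : colLen l 0 + 4 ≤ n) : (n - 1) ^ 3 < 2 * d := by
  rcases Nat.lt_or_ge n 60 with h | h
  · have h3 := List.all_eq_true.1 chk_all (n - 20) (by rw [List.mem_range]; omega)
    rw [show 20 + (n - 20) = n by omega, chk, Bool.and_eq_true, Nat.blt_eq] at h3
    have h4 := lbt hn (by omega) (K := 4) (by norm_num) l d hl.sorted hl.sum he (by omega) (by omega)
    omega
  · have h4 := high h l d hl.sorted hl.sum he (by omega) (by omega)
    omega

theorem lb8 {n : ℕ} (hn : 20 ≤ n) {l : List ℕ} {d : ℕ} (hl : IsPart l n) (he : d * hookProd l = n.factorial)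
    (h1 : l.headD 0 + 8 ≤ n) (h2 : colLen l 0 + 8 ≤ n) : (n - 1) ^ 3 < d := by
  rcases Nat.lt_or_ge n 60 with h | h
  · have h3 := List.all_eq_true.1 chk_all (n - 20) (by rw [List.mem_range]; omega)
    rw [show 20 + (n - 20) = n by omega, chk, Bool.and_eq_true, Nat.blt_eq, Nat.blt_eq] at h3
    have h4 := lbt hn (by omega) (K := 8) (by norm_num) l d hl.sorted hl.sum he (by omega) (by omega)
    omega
  · have h4 := high h l d hl.sorted hl.sum he (by omega) (by omega)
    omega

/-- all partitions -/
theorem part_low {n : ℕ} (hn : 20 ≤ n) {l : List ℕ} {d : ℕ} (hl : IsPart l n) (he : d * hookProd l = n.factorial) :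
    Low n d ∨ (n - 1) ^ 3 < 2 * d := by
  by_cases h1 : n ≤ l.headD 0 + 3
  · exact Or.inl (row_low hn hl he h1)
  by_cases h2 : n ≤ colLen l 0 + 3
  · refine Or.inl (row_low hn (isPart_transpose hl) (by rw [hookProd_transpose hl, he]) ?_)
    rwa [headD_eq_getD, getD_transpose hl.sorted]
  exact Or.inr (lb4 hn hl he (by omega) (by omega))

/-- self-conjugate partitions -/
theorem self_low {n : ℕ} (hn : 20 ≤ n) {l : List ℕ} {d : ℕ} (hl : IsPart l n) (hself : transpose l = l)
    (he : d * hookProd l = n.factorial) : (n - 1) ^ 3 < d := by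
  have hpos : 0 < l.headD 0 := by
    by_contra h0
    have h1 := sum_eq_sum_colLen hl.sorted
    rw [show l.headD 0 = 0 by omega, Finset.sum_range_zero, hl.sum] at h1
    omega
  have h1 := Cfsg.Agent.H999.DS.head_add_col_le hl.sorted hpos
  have h2 : colLen l 0 = l.headD 0 := by
    have h3 := getD_transpose hl.sorted 0
    rw [hself] at h3
    rw [headD_eq_getD, h3]
  rw [hl.sum] at h1
  exact lb8 hn hl he (by omega) (by omega)

/-- **A3**, from A2 -/
theorem a3_of {n : ℕ} (hn : 20 ≤ n)
    (a2 : ∀ {d : ℕ}, d ∈ D n → ∃ l : List ℕ, IsPart l n ∧ ((transpose l ≠ l ∧ d * hookProd l = n.factorial) ∨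
      (transpose l = l ∧ 2 * d * hookProd l = n.factorial))) {d : ℕ} (hd : d ∈ D n) :
    d = 1 ∨ d = n - 1 ∨ 2 * d = n * (n - 3) ∨ 2 * d = (n - 1) * (n - 2) ∨ 6 * d = n * (n - 1) * (n - 5) ∨
      3 * d = n * (n - 2) * (n - 4) ∨ 6 * d = (n - 1) * (n - 2) * (n - 3) ∨ (n - 1) ^ 3 < 2 * d := by
  obtain ⟨l, hl, ⟨-, h⟩ | ⟨h1, h⟩⟩ := a2 hd
  · rcases part_low hn hl h with h2 | h2
    · rcases h2 with h2 | h2 | h2 | h2 | h2 | h2 | h2
      · exact Or.inl h2
      · exact Or.inr (Or.inl h2)
      · exact Or.inr (Or.inr (Or.inl h2))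
      · exact Or.inr (Or.inr (Or.inr (Or.inl h2)))
      · exact Or.inr (Or.inr (Or.inr (Or.inr (Or.inl h2))))
      · exact Or.inr (Or.inr (Or.inr (Or.inr (Or.inr (Or.inl h2)))))
      · exact Or.inr (Or.inr (Or.inr (Or.inr (Or.inr (Or.inr (Or.inl h2))))))
    · exact Or.inr (Or.inr (Or.inr (Or.inr (Or.inr (Or.inr (Or.inr h2))))))
  · exact Or.inr (Or.inr (Or.inr (Or.inr (Or.inr (Or.inr (Or.inr (self_low hn hl h1 h)))))))

end Cfsg.Agent.H35.AN
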